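import Cfsg.Agent.H522.RC.Torus
import Cfsg.Agent.H183.RC.Sem

/-!
# S3510, row C, task H3: elements without eigenvectors

* `pow_card` : `A ^ (q + 1) = det A` for `A ∈ GL₂(q)` without eigenvectors;
* `noEig_pow`, `card_noEig`.
-/

set_option autoImplicit false

open Cfsg Matrix Polynomial

namespace Cfsg.Agent.H522.RC

open Cfsg.Agent.H183.RC Cfsg.Agent.H106.RC

/-- `A ^ (q + 1) = det A` -/
theorem pow_card {F : Type*} [Field F] [Finite F] {A : GL (Fin 2) F} (hA : NoEig A) :
    ((A ^ (Nat.card F + 1) : GL (Fin 2) F) : Matrix (Fin 2) (Fin 2) F) =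
      (A : Matrix (Fin 2) (Fin 2) F).det • (1 : Matrix (Fin 2) (Fin 2) F) := by
  have := Fintype.ofFinite F
  rw [Nat.card_eq_fintype_card]
  set q := Fintype.card F with hq
  set M : Matrix (Fin 2) (Fin 2) F := (A : Matrix (Fin 2) (Fin 2) F) with hM
  set T := M.trace with hT
  set D := M.det with hD
  -- `A ^ q - A` is invertible
  have h1 : (M ^ q - M).det ≠ 0 := by
    let φ : F[X] →* F := (Matrix.detMonoidHom).comp ((aeval M : F[X] →ₐ[F] Matrix (Fin 2) (Fin 2) F) : F[X] →* Matrix (Fin 2) (Fin 2) F)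
    have hφ : ∀ g : F[X], φ g = (aeval M g).det := fun g => rfl
    have h2 : ((X ^ q - X : F[X]).roots.map fun a => X - C a).prod = X ^ q - X := by
      refine prod_multiset_X_sub_C_of_monic_of_roots_card_eq ?_ ?_
      · refine monic_X_pow_sub ?_
        rw [degree_X]
        exact_mod_cast (Fintype.one_lt_card : 1 < q)
      · rw [FiniteField.roots_X_pow_card_sub_X, FiniteField.X_pow_card_sub_X_natDegree_eq F Fintype.one_lt_card]
        rfl
    have h3 : φ (X ^ q - X) ≠ 0 := by
      rw [← h2, map_multiset_prod, Multiset.map_map]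
      intro h
      rw [Multiset.prod_eq_zero_iff, Multiset.mem_map] at h
      obtain ⟨a, -, ha⟩ := h
      have h4 : φ (X - C a) = 0 := ha
      rw [hφ, map_sub, aeval_X, aeval_C, Algebra.algebraMap_eq_smul_one, sub_eq_add_neg, ← neg_smul] at h4
      exact det_ne hA _ h4
    rw [hφ, map_sub, map_pow, aeval_X] at h3
    exact h3
  -- `A ^ q` is a root of the characteristic polynomial
  have h2 : M ^ q * M ^ q = T • M ^ q - D • (1 : Matrix (Fin 2) (Fin 2) F) := by
    let f : F[X] := X ^ 2 - C T * X + C D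
    have h3 : ∀ N : Matrix (Fin 2) (Fin 2) F, aeval N f = N * N - T • N + D • 1 := by
      intro N
      simp only [f, map_add, map_sub, map_mul, aeval_X, aeval_C, Algebra.algebraMap_eq_smul_one, pow_two,
        smul_mul_assoc, one_mul]
    have h4 : aeval M f = 0 := by
      rw [h3, ch, ← hT, ← hD]
      abel
    have h5 : aeval (M ^ q) f = 0 := by
      rw [← expand_aeval, FiniteField.expand_card, map_pow, h4, zero_pow Fintype.card_ne_zero]
    rw [h3] at h5
    rw [← sub_eq_zero, ← h5]
    abel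
  have h3 : (M ^ q - M) * (M ^ q - (T • (1 : Matrix (Fin 2) (Fin 2) F) - M)) = 0 := by
    have hc : M * M ^ q = M ^ q * M := (Commute.refl M).pow_right q
    rw [sub_mul, mul_sub, mul_sub, mul_sub, mul_sub, h2, hc, mul_smul_comm, mul_one, mul_smul_comm, mul_one, ch M, ← hT, ← hD]
    abel
  have h4 : M ^ q = T • (1 : Matrix (Fin 2) (Fin 2) F) - M := by
    have hu : IsUnit (M ^ q - M) := (Matrix.isUnit_iff_isUnit_det _).2 (isUnit_iff_ne_zero.2 h1)
    exact sub_eq_zero.1 ((hu.mul_right_eq_zero).1 h3)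
  rw [Units.val_pow_eq_pow_val, ← hM, pow_succ, h4, sub_mul, smul_mul_assoc, one_mul, ch M, ← hT, ← hD]
  abel

/-- **H3a** -/
theorem noEig_pow {G F : Type*} [Group G] [Field F] [Finite F] {N : Subgroup G} (hN : N.Normal)
    (hc : Subgroup.centralizer (N : Set G) = ⊥) {e : N ≃* PS F} (h4 : 4 ≤ Nat.card F) {g : G}
    {A : GL (Fin 2) F} (h : Acts e g A 1) (hA : NoEig A) : g ^ (Nat.card F + 1) = 1 :=
  acts_triv hN hc (acts_pow hN h (Nat.card F + 1)) _ (pow_card hA)

/-- a product of distinct numbers `≥ 2` -/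
theorem fact_le_prod (n : ℕ) : ∀ s : Finset ℕ, s.card = n → (∀ a ∈ s, 2 ≤ a) → (n + 1).factorial ≤ ∏ a ∈ s, a := by
  induction n with
  | zero =>
    intro s hs _
    rw [Finset.card_eq_zero.1 hs]
    simp
  | succ n ih =>
    intro s hs h2
    have hne : s.Nonempty := Finset.card_pos.1 (by omega)
    have h1 := ih (s.erase (s.max' hne)) (by rw [Finset.card_erase_of_mem (s.max'_mem hne), hs]; rfl)
      (fun a ha => h2 a (Finset.mem_of_mem_erase ha))
    have h3 : n + 2 ≤ s.max' hne := by
      have h4 : s ⊆ Finset.Icc 2 (s.max' hne) := fun a ha => Finset.mem_Icc.2 ⟨h2 a ha, s.le_max' a ha⟩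
      have h5 := Finset.card_le_card h4
      rw [Nat.card_Icc, hs] at h5
      omega
    rw [← Finset.mul_prod_erase s _ (s.max'_mem hne), Nat.factorial_succ]
    exact Nat.mul_le_mul h3 h1

/-- **H3** -/
theorem card_noEig {G F ι : Type*} [Group G] [Field F] [Finite F] {N : Subgroup G} (hN : N.Normal)
    (hc : Subgroup.centralizer (N : Set G) = ⊥) (e : N ≃* PS F) (h4 : 4 ≤ Nat.card F)
    [Finite ι] (x : ι → G) (r : ι → ℕ) (h : PF x r) (A : ι → GL (Fin 2) F)
    (hA : ∀ i, Acts e (x i) (A i) 1) (hno : ∀ i, NoEig (A i)) :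
    (16 ≤ Nat.card F → 4 * (Nat.card ι + 1) ≤ Nat.card F) ∧
    (7 ≤ Nat.card F → Nat.card F ≠ 9 → 4 * Nat.card ι ≤ Nat.card F ∨ Nat.card ι ≤ 1) := by
  classical
  have := Fintype.ofFinite ι
  have h1 : ∀ i, r i ∣ Nat.card F + 1 := by
    intro i
    have h2 := orderOf_dvd_of_pow_eq_one (noEig_pow hN hc h4 (hA i) (hno i))
    have := Fact.mk (h.prime i)
    rwa [orderOf_eq_prime (h.pow i) (h.ne i)] at h2
  set s : Finset ℕ := Finset.univ.image r with hs
  have hsc : s.card = Nat.card ι := by
    rw [hs, Finset.card_image_of_injective _ h.inj, Finset.card_univ, Nat.card_eq_fintype_card]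
  have h2 : ∏ a ∈ s, a ∣ Nat.card F + 1 := by
    refine Finset.prod_primes_dvd _ (fun a ha => ?_) fun a ha => ?_
    · obtain ⟨i, -, rfl⟩ := Finset.mem_image.1 ha
      exact (h.prime i).prime
    · obtain ⟨i, -, rfl⟩ := Finset.mem_image.1 ha
      exact h1 i
  have h3 := (fact_le_prod _ s hsc (fun a ha => by
    obtain ⟨i, -, rfl⟩ := Finset.mem_image.1 ha
    exact (h.prime i).two_le)).trans (Nat.le_of_dvd (by omega) h2)
  set m := Nat.card ι with hm
  set q := Nat.card F with hq
  have hbig : 4 ≤ m → 4 * (m + 1) ≤ q := by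
    intro hm4
    have h5 : 5 * (m + 1) ≤ (m + 1).factorial := by
      rw [Nat.factorial_succ, mul_comm]
      refine Nat.mul_le_mul_left _ ?_
      have h6 : Nat.factorial 4 ≤ m.factorial := Nat.factorial_le hm4
      have h7 : Nat.factorial 4 = 24 := rfl
      omega
    omega
  constructor
  · intro h16
    by_cases hm4 : 4 ≤ m
    · exact hbig hm4
    · omega
  · intro h7 h9
    by_cases hm1 : m ≤ 1
    · exact Or.inr hm1
    left
    by_cases hm4 : 4 ≤ m
    · have := hbig hm4
      omega
    by_cases hm3 : m = 3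
    · rw [hm3] at h3
      have h6 : (3 + 1).factorial = 24 := rfl
      omega
    · have hm2 : m = 2 := by omega
      rcases Nat.lt_or_ge q 8 with h8 | h8
      · exfalso
        have hq7 : q = 7 := by omega
        have h9 : ∀ i, r i = 2 := by
          intro i
          have h10 := h1 i
          rw [hq7] at h10
          have h11 : r i ∣ 2 ^ 3 := h10
          exact (Nat.prime_dvd_prime_iff_eq (h.prime i) Nat.prime_two).1 ((h.prime i).dvd_of_dvd_pow h11)
        have h10 : Subsingleton ι := ⟨fun i j => h.inj ((h9 i).trans (h9 j).symm)⟩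
        have h11 := Finite.card_le_one_iff_subsingleton.2 h10
        omega
      · omega

end Cfsg.Agent.H522.RC
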