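import Cfsg.Agent.H522.RC.NoEig

/-!
# S3510, row C, task H2: families with one field automorphism and elements without eigenvectors

`tor_of` (`ub` is a hypothesis).
-/

set_option autoImplicit false

open Cfsg Matrix

namespace Cfsg.Agent.H522.RC

open Cfsg.Agent.H183.RC Cfsg.Agent.H106.RC

section

variable {F : Type*} [Field F]

theorem gmap_one (B : GL (Fin 2) F) : gmap 1 B = B := by
  apply Units.ext
  ext i j
  rfl

theorem gmap_inv_apply (σ : F ≃+* F) (B : GL (Fin 2) F) : gmap σ (gmap σ⁻¹ B) = B := by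
  apply Units.ext
  ext i j
  exact σ.apply_symm_apply _

theorem gmap_map_inv (σ : F ≃+* F) (B : GL (Fin 2) F) : gmap σ B⁻¹ = (gmap σ B)⁻¹ := map_inv _ _

/-- commuting modulo scalars -/
theorem comm_or {a b : GL (Fin 2) F} {c : F} (h : (a : Matrix (Fin 2) (Fin 2) F) * b = c • ((b : Matrix (Fin 2) (Fin 2) F) * a)) :
    a * b = b * a ∨ ((a : Matrix (Fin 2) (Fin 2) F).trace = 0 ∧ (b : Matrix (Fin 2) (Fin 2) F).trace = 0) := by
  by_cases hc : c = 1
  · left
    apply Units.ext
    rw [Units.val_mul, Units.val_mul, h, hc, one_smul]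
  · right
    have ha : (a : Matrix (Fin 2) (Fin 2) F) * ((a⁻¹ : GL (Fin 2) F) : Matrix (Fin 2) (Fin 2) F) = 1 := by
      rw [← Units.val_mul, mul_inv_cancel, Units.val_one]
    have ha' : ((a⁻¹ : GL (Fin 2) F) : Matrix (Fin 2) (Fin 2) F) * (a : Matrix (Fin 2) (Fin 2) F) = 1 := by
      rw [← Units.val_mul, inv_mul_cancel, Units.val_one]
    have hb : (b : Matrix (Fin 2) (Fin 2) F) * ((b⁻¹ : GL (Fin 2) F) : Matrix (Fin 2) (Fin 2) F) = 1 := by
      rw [← Units.val_mul, mul_inv_cancel, Units.val_one]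
    have hb' : ((b⁻¹ : GL (Fin 2) F) : Matrix (Fin 2) (Fin 2) F) * (b : Matrix (Fin 2) (Fin 2) F) = 1 := by
      rw [← Units.val_mul, inv_mul_cancel, Units.val_one]
    have hc1 : (1 - c) ≠ 0 := sub_ne_zero.2 (Ne.symm hc)
    constructor
    · -- `b⁻¹ a b = c a`
      have e1 : ((b⁻¹ : GL (Fin 2) F) : Matrix (Fin 2) (Fin 2) F) * ((a : Matrix (Fin 2) (Fin 2) F) * b) =
          c • (a : Matrix (Fin 2) (Fin 2) F) := by
        rw [h, mul_smul_comm, ← mul_assoc, hb', one_mul]
      have e2 := congrArg Matrix.trace e1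
      rw [Matrix.trace_mul_comm, mul_assoc, hb, mul_one, Matrix.trace_smul, smul_eq_mul] at e2
      have e3 : (1 - c) * (a : Matrix (Fin 2) (Fin 2) F).trace = 0 := by linear_combination e2
      exact (mul_eq_zero.1 e3).resolve_left hc1
    · have e1 : ((a : Matrix (Fin 2) (Fin 2) F) * b) * ((a⁻¹ : GL (Fin 2) F) : Matrix (Fin 2) (Fin 2) F) =
          c • (b : Matrix (Fin 2) (Fin 2) F) := by
        rw [h, smul_mul_assoc, mul_assoc, ha, mul_one]
      have e2 := congrArg Matrix.trace e1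
      rw [Matrix.trace_mul_comm, ← mul_assoc, ha', one_mul, Matrix.trace_smul, smul_eq_mul] at e2
      have e3 : (1 - c) * (b : Matrix (Fin 2) (Fin 2) F).trace = 0 := by linear_combination e2
      exact (mul_eq_zero.1 e3).resolve_left hc1

end

/-- **H2** -/
theorem tor_of {G Ω F ι : Type*} [Group G] [MulAction G Ω] [Field F] [Finite F]
    {N : Subgroup G} (hE : Env G Ω N) (e : N ≃* PS F)
    [Finite ι] (hub : ∀ (x : ι → G) (t : ι → GL (Fin 2) F), (∀ i, Acts e (x i) (t i) 1) → (∀ i, NoEig (t i)) →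
      4 * Nat.card ι ≤ Nat.card F → ∃ ω : Ω, ∀ i, x i • ω ≠ ω) (h16 : 16 ≤ Nat.card F)
    (x : ι → G) (r : ι → ℕ) (h : PF x r) (A : ι → GL (Fin 2) F) (σ : ι → F ≃+* F)
    (hA : ∀ i, Acts e (x i) (A i) (σ i)) (k : ι) (hk : σ k ≠ 1)
    (hno : ∀ i, i ≠ k → σ i = 1 ∧ NoEig (A i)) (hex : ∃ i, i ≠ k) : ¬ Cov Ω x := by
  classical
  intro hcov
  have hN := hE.norm
  have hc := hE.cent
  have h4 : 4 ≤ Nat.card F := by omega
  obtain ⟨j, hj⟩ := hex
  have hA1 : ∀ i, i ≠ k → Acts e (x i) (A i) 1 := fun i hi => (hno i hi).1 ▸ hA i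
  -- exact commutation
  have hsq : ∀ i, i ≠ k → (A i : Matrix (Fin 2) (Fin 2) F).trace = 0 → r i = 2 := by
    intro i hi htr
    have h1 := acts_pow hN (hA1 i hi) 2
    have h2 : x i ^ 2 = 1 := by
      refine acts_triv hN hc h1 (-(A i : Matrix (Fin 2) (Fin 2) F).det) ?_
      rw [Units.val_pow_eq_pow_val, pow_two, ch, htr, zero_smul, zero_sub, neg_smul]
    have h3 := orderOf_dvd_of_pow_eq_one h2
    have := Fact.mk (h.prime i)
    rw [orderOf_eq_prime (h.pow i) (h.ne i)] at h3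
    exact (Nat.prime_dvd_prime_iff_eq (h.prime i) Nat.prime_two).1 h3
  have hcomm : ∀ i, i ≠ k → A i * A j = A j * A i := by
    intro i hi
    obtain ⟨-, c, -, hcc⟩ := acts_comm hN h4 (hA1 i hi) (hA1 j hj) (h.comm i j)
    rw [gmap_one, gmap_one] at hcc
    rw [Units.val_mul, Units.val_mul] at hcc
    rcases comm_or hcc with h1 | ⟨h1, h2⟩
    · exact h1.symm
    · have h3 : i = j := h.inj ((hsq i hi h2).trans (hsq j hj h1).symm)
      rw [h3]
  -- the hypothesis of H1
  obtain ⟨-, c, -, hcc⟩ := acts_comm hN h4 (hA1 j hj) (hA k) (h.comm j k)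
  rw [gmap_one] at hcc
  obtain ⟨s, hs⟩ := exists_torus_elt h4 (A j) (A k) (hno j hj).2 (σ k) hk c (by
    rw [Units.val_mul, hcc, Units.val_mul, smul_mul_assoc, mul_assoc, ← Units.val_mul, mul_inv_cancel, Units.val_one,
      mul_one])
  obtain ⟨hy, hcm⟩ := hs
  set s' : GL (Fin 2) F := Matrix.SpecialLinearGroup.toGL s with hs'
  set y : GL (Fin 2) F := s' * (A k * gmap (σ k) s' * (A k)⁻¹)⁻¹ with hyd
  set n : N := e.symm (QuotientGroup.mk s) with hn
  have hnA : Acts e (n : G) s' 1 := acts_mem n s (by rw [hn, MulEquiv.apply_symm_apply])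
  have hnx : ∀ i, i ≠ k → (n : G) * x i = x i * n := by
    intro i hi
    have h1 := acts_mul hN hnA (hA1 i hi)
    have h2 := acts_mul hN (hA1 i hi) hnA
    rw [gmap_one] at h1 h2
    rw [(hcm (A i) (hcomm i hi)).1] at h2
    exact acts_inj hN hc h1 h2
  have hcov' := hcov.mv_comm k hnx
  have hz : Acts e ((n : G) * x k * (n : G)⁻¹ * (x k)⁻¹) y 1 := by
    have h1 := acts_mul hN (acts_mul hN (acts_mul hN hnA (hA k)) (acts_inv hN hnA)) (acts_inv hN (hA k))
    have e1 : (1 : F ≃+* F) * σ k * 1⁻¹ = σ k := by group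
    have e2 : (1 : F ≃+* F) * σ k * 1⁻¹ * (σ k)⁻¹ = 1 := by group
    rw [e2, e1, gmap_one, inv_one, gmap_one, one_mul, gmap_inv_apply, gmap_map_inv] at h1
    have e3 : s' * A k * (gmap (σ k) s')⁻¹ * (A k)⁻¹ = y := by
      rw [hyd]
      group
    rwa [e3] at h1
  have hcard : 4 * Nat.card ι ≤ Nat.card F := by
    have h1 := (card_noEig hN hc e h4 (fun i : {i // i ≠ k} => x i) (fun i => r i)
      ⟨fun i => h.prime i, fun i i' hii => Subtype.ext (h.inj hii), fun i => h.pow i, fun i => h.ne i,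
        fun i i' => h.comm i i'⟩ (fun i => A i) (fun i => hA1 i i.2) (fun i => (hno i i.2).2)).1 h16
    have h2 : Nat.card {i // i ≠ k} + 1 = Nat.card ι := by
      have := Fintype.ofFinite ι
      rw [Nat.card_eq_fintype_card, Nat.card_eq_fintype_card, Fintype.card_subtype_compl, Fintype.card_subtype_eq]
      have : 0 < Fintype.card ι := Fintype.card_pos_iff.2 ⟨k⟩
      omega
    rwa [h2] at h1
  obtain ⟨ω, hω⟩ := hub (Function.update x k ((n : G) * x k * (n : G)⁻¹ * (x k)⁻¹)) (Function.update A k y) (by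
    intro i
    by_cases hi : i = k
    · subst hi
      rw [Function.update_self, Function.update_self]
      exact hz
    · rw [Function.update_of_ne hi, Function.update_of_ne hi]
      exact hA1 i hi) (by
    intro i
    by_cases hi : i = k
    · subst hi
      rw [Function.update_self]
      exact hy
    · rw [Function.update_of_ne hi]
      exact (hno i hi).2) hcard
  obtain ⟨i, hi⟩ := hcov' ω
  exact hω i hi

end Cfsg.Agent.H522.RC
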